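import Cfsg.Agent.CosetEnum.Orbit

/-! Generated orbit certificate: x^4 lies in <x^-1 y^2 x>. -/

set_option autoImplicit false
set_option maxRecDepth 100000

namespace CfsgLib.HN133.OrbA

open CfsgLib.CosetEnum

noncomputable def epFLeaf (c : ℕ) : ℕ :=
  0x18000004000164100006000167f00004000164200009000197f0000600019410000100016bf0000900016810000800010bf000010001082000020000e3f000080000e030001800010ff0000200010c00000800014bf000180001483000310000a7f000080000a43000180001ebf000310001e81000320000aff000180000ac3000310001eff000320001ec2000580000c7f0004d0000c400004e00023bf00058000238000078000157f0004e00015420007700023ff0007800023c000077000203f0007700020020008c000253f0008c00025020008a00022bf0009500026c10009900026c00008400026420009700026430008300025c10009500025c00008200025430009400025420009100025030008000024800009100024810008100024420007d00023c10008e00023c00008000023830007b00023020008a00023030007700022820008700022810008500022010008700022000008100021c20007400021430008400021410008200021030007200020c10006e0002082000810002042000570002003000550001f810007d0001f80000570001f42000550001ec00007a0001ec1000540001e82000520001e00000770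001e01000580001dc30004e0001d40000740001d41000570001d020004e0001c800006e0001c810006a0001c010006d0001c00000690001b830006d0001b820006c0001b430003f0001b020003e0001a83000690001a82000680001a430003a0001a020003900019410004200019420006300019400005900018c00004500018c10005c00018400005f00018420004500017c00005d00017c20005000017420005c00017400004b00017010003600016830005900016810003800016400003500016030003200015c20003200015400005400015410003100015020002f00014800005100014820003800014400002f00014010003400013810004d00013800002d00013420002b00012c20004700012c00003c00012400004600012430003b00011c10004600011c00003400011830002a00011400002700010c30004200010c00002900010810002600010000003f00010010003a0000fc3000250000f82000250000f000003b0000f02000240000ec0000230000e83000210000e42000210000e010001d0000d83000350000d81000240000d400001c0000d03000190000c80000310000c810002d0000c42000180000bc00002e0000bc20001b0000b80000180000b42000170000ac10002a0000ac2000290000a81000170000a400001500009c30002600009c00001f00009810001400009400001300009010001100008c20001000008400002000008410001300008030000e00007c00000e00007430001c00007410001b00007000000c00006c10000900006410001800006400001700006020000800005c20000700005430001400005400000700005010000600004c30000500004410001000004430000c00004010000500003800000d00003830000600003400000500003000000400002420000400002410000800002430000400002010000200001c000002000018100001000014300000000010000000000004200002000008200001000004100000000003f00000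

/-- table entries -/
noncomputable def epF (i : ℕ) : ℕ :=
  ((epFLeaf (i >>> 9)) >>> (48 * (i % 512))) % 281474976710656

noncomputable def nodeFLeaf (c : ℕ) : ℕ :=
  0x0

/-- table entries -/
noncomputable def nodeF (i : ℕ) : ℕ :=
  ((nodeFLeaf (i >>> 10)) >>> (20 * (i % 1024))) % 1048576

noncomputable def nextFLeaf (c : ℕ) : ℕ :=
  0x0

/-- table entries -/
noncomputable def nextF (i : ℕ) : ℕ :=
  ((nextFLeaf (i >>> 10)) >>> (20 * (i % 1024))) % 1048576

/-- relators, then generators of the subgroup -/
def words : List (List ℕ) := [[2, 2, 2, 2, 2, 2], [0, 0, 2, 0, 0, 3], [1, 3, 0, 2, 1, 3, 0, 2, 1, 3, 0, 2], [1, 2, 2, 0, 2, 2, 2, 1, 2, 2, 0, 2, 2, 2, 1, 2, 2, 0, 2, 2, 2], [0, 2, 0, 2, 0, 2, 0, 2, 0, 2, 0, 2, 0, 2, 0, 2], [0, 2, 0, 2, 2, 2, 0, 2, 0, 2, 2, 2, 0, 2, 0, 2, 2, 2, 0, 2, 0, 2, 2, 2], [3, 3, 3, 3, 3, 3], [2, 1, 1, 3, 1, 1], [3, 1, 2, 0, 3, 1, 2, 0, 3, 1, 2, 0], [3, 3, 3, 1, 3, 3, 0, 3, 3, 3, 1, 3, 3, 0, 3, 3, 3, 1, 3, 3, 0], [3, 1, 3, 1, 3, 1, 3, 1, 3, 1, 3, 1, 3, 1, 3, 1], [3, 3, 3, 1, 3, 1, 3, 3, 3, 1, 3, 1, 3, 3, 3, 1, 3, 1, 3, 3, 3, 1, 3, 1], [1, 2, 2, 0]]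

/-- the words whose orbit is certified -/
def orbitWords : List (List ℕ) := [[0, 0, 0, 0]]

end CfsgLib.HN133.OrbA
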